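import Cfsg.Agent.H672.IF.ThOrb
import Cfsg.Agent.MonsterX.ThOneClass
import Cfsg.Agent.KFacts.Th.Main
import Cfsg.Agent.H999.IF.EngB
import Cfsg.Agent.H209.IF.Kill

/-!
# S5719: the Thompson group (helper672)

`C(z) = Q.A₉`, `Q = 2^(1+8)`, one class of involutions, `|z^T| = 976841775 < 63^5`, so `|C(t) : C_A(t)| ≤ 62`.

* `Q_le_of` : `Q_t ≤ A` for the involutions `t` of `A` (the orbits of `A₉` on the spin module have 135 and 120 elements);
* `cent_le` : `C(t) ≤ A` for the involutions `t` of `A`;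
* `mem_of_conj` : `t^g ∈ A` implies `g ∈ A`, so `t` has only one fixed point.
-/

set_option autoImplicit false
set_option maxRecDepth 100000

namespace Cfsg.Agent.H672.IF.Th

open Subgroup Cfsg.Agent.ThType.SpinData Cfsg.Agent.ThType.SpinRep Cfsg.Agent.ThType.ElemE Cfsg.Agent.ThType.NormE
  Cfsg.Agent.H672.IF.ThOrb

section spin

variable {G : Type*} [Group G] {z : G} (S : SpinAt G z) {A : Subgroup G}

/-- the image of `Q ∩ A` in the spin module -/
def V0 (A : Subgroup G) : AddSubgroup V where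
  carrier := {v | ∃ x ∈ S.Q ⊓ A, S.π x = v}
  add_mem' := by
    rintro _ _ ⟨x, hx, rfl⟩ ⟨y, hy, rfl⟩
    exact ⟨x * y, mul_mem hx hy, S.π_mul x hx.1 y hy.1⟩
  zero_mem' := ⟨1, one_mem _, pi_one S⟩
  neg_mem' := by
    rintro _ ⟨x, hx, rfl⟩
    refine ⟨x, hx, ?_⟩
    exact (neg_eq_of_add_eq_zero_left (vadd_self _)).symm

theorem preim_V0 (hz : z ∈ A) : preim S (V0 S A) = S.Q ⊓ A := by
  ext x
  rw [mem_preim]
  constructor
  · rintro ⟨hx, y, hy, hxy⟩
    refine ⟨hx, ?_⟩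
    rcases pi_eq S hx hy.1 hxy.symm with h | h
    · rw [h]; exact hy.2
    · rw [h]; exact mul_mem hz hy.2
  · intro hx
    exact ⟨hx.1, x, hx, rfl⟩

/-- the orthogonal space -/
noncomputable def W (A : Subgroup G) : Submodule (ZMod 2) V :=
  B.orthogonal (AddSubgroup.toZModSubmodule 2 (V0 S A))

theorem card_W : Nat.card (V0 S A) * Nat.card (W S A) = 256 := by
  have h3 := LinearMap.BilinForm.finrank_add_finrank_orthogonal' (B := B) (AddSubgroup.toZModSubmodule 2 (V0 S A))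
  rw [ker_B, inf_bot_eq, finrank_bot, add_zero] at h3
  have h4 : Module.finrank (ZMod 2) V = 8 := by simp
  have : Fact (Nat.Prime 2) := ⟨Nat.prime_two⟩
  have h5 : Nat.card (V0 S A) = Nat.card (AddSubgroup.toZModSubmodule 2 (V0 S A)) := rfl
  rw [h5, W, Module.natCard_eq_pow_finrank (K := ZMod 2) (V := AddSubgroup.toZModSubmodule 2 (V0 S A)),
    Module.natCard_eq_pow_finrank (K := ZMod 2) (V := B.orthogonal (AddSubgroup.toZModSubmodule 2 (V0 S A))),
    Nat.card_zmod, ← pow_add, h3, h4]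
  norm_num

theorem mem_W {v : V} : v ∈ W S A ↔ ∀ w ∈ V0 S A, b0 w v = 0 := by
  rw [W, LinearMap.BilinForm.mem_orthogonal_iff]
  rfl

/-- the order of `C_A(z)` -/
theorem card_D (A : Subgroup G) : Nat.card (A.subgroupOf (C z)) =
    Nat.card (S.Q ⊓ A : Subgroup G) * Nat.card ((A.subgroupOf (C z)).map (phiHom S)) := by
  have h1 := Subgroup.card_mul_index ((phiHom S).comp (A.subgroupOf (C z)).subtype).ker
  rw [Subgroup.index_ker, MonoidHom.range_comp, Subgroup.range_subtype] at h1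
  rw [← h1]
  congr 1
  refine Nat.card_congr ⟨fun x => ⟨x.1.1.1, ?_, x.1.2⟩, fun x => ⟨⟨⟨x.1, Q_le_C S x.2.1⟩, x.2.2⟩, ?_⟩, ?_, ?_⟩
  · have h2 : S.φ x.1.1.1 = 1 := x.2
    exact (S.φ_eq_one _ (mem_C.1 x.1.1.2)).1 h2
  · exact phi_Q S x.2.1
  · intro x
    rfl
  · intro x
    rfl

theorem exists_ne (hz : z ∈ A) (hle : ¬ S.Q ≤ A) : ∃ w ∈ W S A, w ≠ 0 := by
  by_contra hcon
  push Not at hcon
  have h1 : Nat.card (W S A) = 1 := by
    rw [Nat.card_eq_one_iff_unique]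
    exact ⟨⟨fun a b => Subtype.ext ((hcon a.1 a.2).trans (hcon b.1 b.2).symm)⟩, ⟨0⟩⟩
  have h2 := card_W S (A := A)
  rw [h1, mul_one] at h2
  have h3 : V0 S A = ⊤ := by
    apply AddSubgroup.eq_top_of_card_eq
    rw [h2, Nat.card_eq_fintype_card]
    rfl
  have h4 := preim_V0 S hz
  rw [h3, preim_top] at h4
  apply hle
  rw [h4]
  exact inf_le_right

theorem stable {g : alternatingGroup (Fin 9)} (hg : g ∈ (A.subgroupOf (C z)).map (phiHom S)) {w : V} (hw : w ∈ W S A) :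
    (S.ρ g).mulVec w ∈ W S A := by
  obtain ⟨c, hc, rfl⟩ := hg
  have hcz : (c : G) * z = z * c := mem_C.1 c.2
  have hcz' : (c : G)⁻¹ * z = z * (c : G)⁻¹ := ((show Commute (c : G) z from hcz).inv_left).eq
  rw [mem_W]
  rintro _ ⟨x, hx, rfl⟩
  change b0 (S.π x) ((S.ρ (S.φ c)).mulVec w) = 0
  have h1 := b0_rho S.ρ_cyc (S.φ c)⁻¹ (S.π x) ((S.ρ (S.φ c)).mulVec w)
  rw [rho_inv_rho] at h1
  rw [← h1, ← phi_inv S _ hcz, ← S.act _ hcz' x hx.1]
  refine (mem_W S).1 hw _ ⟨_, ⟨conj_mem_Q S hcz' hx.1, ?_⟩, rfl⟩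
  have hcA : (c : G) ∈ A := hc
  exact A.mul_mem (A.mul_mem (A.inv_mem hcA) hx.2) (A.inv_mem (A.inv_mem hcA))

/-- **`Q ≤ A`.** -/
theorem Q_le_of (hz : z ∈ A) (hi : A.relIndex (C z) ≤ 62) : S.Q ≤ A := by
  by_contra hle
  obtain ⟨w, hw, hw0⟩ := exists_ne S hz hle
  have h1 := card_le S.ρ_cyc (R := (A.subgroupOf (C z)).map (phiHom S)) (W := (W S A : Set V))
    (fun g hg v hv => stable S hg hv) (W S A).zero_mem hw hw0
  have h2 := card_D S A
  have h3 : Nat.card (A.subgroupOf (C z)) * A.relIndex (C z) = 512 * 181440 := by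
    rw [← card_C S]
    exact Subgroup.card_mul_index _
  have h4 : Nat.card (S.Q ⊓ A : Subgroup G) = 2 * Nat.card (V0 S A) := by rw [← preim_V0 S hz, card_preim]
  have h5 := card_W S (A := A)
  have h6 : Nat.card ((W S A : Set V)) = Nat.card (W S A) := rfl
  rw [h6] at h1
  have h7 : 0 < Nat.card (W S A) := Nat.card_pos
  set n := A.relIndex (C z)
  set r := Nat.card ((A.subgroupOf (C z)).map (phiHom S))
  set v := Nat.card (V0 S A)
  set u := Nat.card (W S A)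
  rw [h2, h4] at h3
  -- `r n = 181440 u`
  have h8 : r * n = 181440 * u := by
    have h9 : 512 * (r * n) = 512 * (181440 * u) := by
      calc 512 * (r * n) = 2 * (v * u) * r * n := by rw [h5]; ring
        _ = (2 * v * r * n) * u := by ring
        _ = 512 * (181440 * u) := by rw [h3]; ring
    omega
  have h10 : 120 * (181440 * u) ≤ 181440 * (u - 1) * 62 := by
    calc 120 * (181440 * u) = 120 * r * n := by rw [← h8]; ring
      _ ≤ 181440 * (u - 1) * 62 := Nat.mul_le_mul h1 hi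
  omega

/-- `Q_(gzg⁻¹) ∩ C(z)` is not contained in `Q`. -/
theorem false_of_bot [Finite G] {g : G} (hc : g * z * g⁻¹ ∈ S.Q) (hcz : g * z * g⁻¹ ≠ z)
    (h : ∀ x ∈ (conj S g).Q, x * z = z * x → x ∈ S.Q) : False := by
  have hz := z_mem_conj S hc hcz
  obtain ⟨a, b, h1, h2, h3⟩ := exists_pair ((conj S g).π z)
  obtain ⟨x, hx, rfl⟩ := (conj S g).π_surj a
  obtain ⟨y, hy, rfl⟩ := (conj S g).π_surj b
  have hxz := (comm_iff (conj S g) hx hz).2 h1
  have hyz := (comm_iff (conj S g) hy hz).2 h2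
  have hxQ := h x hx hxz
  have hyQ := h y hy hyz
  have h4 := (conj S g).comm x hx y hy
  rw [if_neg (by rw [h3]; decide)] at h4
  have h5 := S.comm x hxQ y hyQ
  rw [h4] at h5
  have h6 := mul_right_cancel h5
  split_ifs at h6 with h7
  · exact (conj S g).z_ne h6
  · exact hcz h6

/-- **`C(z) ≤ A`.** -/
theorem cent_le [Finite G] (hall : ∀ (s : G) (S' : SpinAt G s), s ∈ A → S'.Q ≤ A) (hz : z ∈ A) {g : G}
    (hc : g * z * g⁻¹ ∈ S.Q) (hcz : g * z * g⁻¹ ≠ z) : C z ≤ A := by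
  have hQA := hall z S hz
  set X : Set (C z) := {x | (x : G) ∈ (conj S g).Q} with hX
  have hN : Subgroup.normalClosure X ≤ A.subgroupOf (C z) := by
    change Subgroup.closure (Group.conjugatesOfSet X) ≤ _
    rw [Subgroup.closure_le]
    intro x hx
    obtain ⟨a, ha, hax⟩ := Group.mem_conjugatesOfSet_iff.1 hx
    obtain ⟨c, rfl⟩ := isConj_iff.1 hax
    have hcz' : (c : G) * z = z * c := mem_C.1 c.2
    have h1 : ((c : G) * g) * z * ((c : G) * g)⁻¹ ∈ A := by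
      apply hQA
      have h2 := conj_mem_Q S hcz' hc
      have h3 : ((c : G) * g) * z * ((c : G) * g)⁻¹ = (c : G) * (g * z * g⁻¹) * (c : G)⁻¹ := by group
      rwa [h3]
    refine hall _ (conj S ((c : G) * g)) h1 ?_
    rw [Subgroup.coe_subtype, mem_conj_Q]
    have h4 : ((c : G) * g)⁻¹ * ((c * a * c⁻¹ : C z) : G) * ((c : G) * g) = g⁻¹ * (a : G) * g := by
      rw [Subgroup.coe_mul, Subgroup.coe_mul, Subgroup.coe_inv]
      group
    rw [h4]
    exact mem_conj_Q S |>.1 ha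
  have hsurj : Function.Surjective (phiHom S) := by
    intro a
    obtain ⟨x, hx, rfl⟩ := S.φ_surj a
    exact ⟨⟨x, mem_C.2 hx⟩, rfl⟩
  have hs : IsSimpleGroup (alternatingGroup (Fin 9)) := alternatingGroup.isSimpleGroup (by simp)
  have hn : ((Subgroup.normalClosure X).map (phiHom S)).Normal := Subgroup.Normal.map inferInstance _ hsurj
  rcases hn.eq_bot_or_eq_top with hb | ht
  · exfalso
    refine false_of_bot S hc hcz fun x hx hxz => ?_
    rw [← S.φ_eq_one x hxz]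
    have h1 : phiHom S ⟨x, mem_C.2 hxz⟩ ∈ (Subgroup.normalClosure X).map (phiHom S) :=
      Subgroup.mem_map_of_mem _ (Subgroup.subset_normalClosure hx)
    rw [hb, Subgroup.mem_bot] at h1
    exact h1
  · intro c hcC
    have h1 : phiHom S ⟨c, hcC⟩ ∈ (Subgroup.normalClosure X).map (phiHom S) := by rw [ht]; trivial
    obtain ⟨n, hn, hnc⟩ := h1
    have h2 : phiHom S (⟨c, hcC⟩ * n⁻¹) = 1 := by rw [map_mul, map_inv, hnc, mul_inv_cancel]
    have hcn : (c * (n : G)⁻¹) * z = z * (c * (n : G)⁻¹) := mem_C.1 ((⟨c, hcC⟩ : C z) * n⁻¹).2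
    have h3 : c * (n : G)⁻¹ ∈ S.Q := (S.φ_eq_one (c * (n : G)⁻¹) hcn).1 h2
    have h4 : (n : G) ∈ A := hN hn
    have h5 := A.mul_mem (hQA h3) h4
    rwa [inv_mul_cancel_right] at h5

/-- `C(Q) = ⟨z⟩`. -/
theorem eq_of_comm {x : G} (hx : ∀ y ∈ S.Q, x * y = y * x) : x = 1 ∨ x = z := by
  have hxz : x * z = z * x := hx z S.z_mem
  have h1 : S.φ x = 1 := by
    apply ker_fix S.ρ_cyc
    intro v
    obtain ⟨y, hy, rfl⟩ := S.π_surj v
    rw [← S.act x hxz y hy, hx y hy, mul_inv_cancel_right]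
  have h2 : x ∈ S.Q := (S.φ_eq_one x hxz).1 h1
  rw [← S.π_eq_zero x h2]
  by_contra h3
  obtain ⟨w, hw⟩ := b0_nondeg _ h3
  obtain ⟨y, hy, rfl⟩ := S.π_surj w
  have h4 := not_comm S hy h2 hw
  rw [← hx y hy, mul_inv_cancel_right] at h4
  exact S.z_ne (right_eq_mul.1 h4)

open scoped Pointwise in
include S in
/-- **`A` controls the fusion of its involutions.** -/
theorem mem_of_conj [Finite G] (hodd : ¬ 2 ∣ (C z).index) (hA : ∀ g : G, g * z * g⁻¹ ∈ A → C (g * z * g⁻¹) ≤ A)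
    (hz : C z ≤ A) {g : G} (hg : g * z * g⁻¹ ∈ A) : g ∈ A := by
  have : Fact (Nat.Prime 2) := ⟨Nat.prime_two⟩
  have hQ2 : IsPGroup 2 (S.Q.subgroupOf (C z)) := by
    apply IsPGroup.comap_subtype
    exact IsPGroup.of_card (n := 9) (by rw [card_Q S]; norm_num)
  obtain ⟨P0, hP0⟩ := hQ2.exists_le_sylow
  have hP2 : IsPGroup 2 ((P0 : Subgroup (C z)).map (C z).subtype) := P0.isPGroup'.map _
  have hidx : ¬ 2 ∣ ((P0 : Subgroup (C z)).map (C z).subtype).index := by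
    rw [Subgroup.index_map_subtype, Nat.prime_two.dvd_mul, not_or]
    exact ⟨P0.not_dvd_index, hodd⟩
  set P : Sylow 2 G := hP2.toSylow hidx with hP
  have hPC : ∀ x ∈ P, x ∈ C z := by
    rintro _ ⟨x, -, rfl⟩
    exact x.2
  have hQP : ∀ x ∈ S.Q, x ∈ P := fun x hx =>
    ⟨⟨x, Q_le_C S hx⟩, hP0 (show (⟨x, Q_le_C S hx⟩ : C z) ∈ S.Q.subgroupOf (C z) from hx), rfl⟩
  have h1 : (P : Subgroup G) ≤ A := fun x hx => hz (hPC x hx)
  have h2 : ((g • P : Sylow 2 G) : Subgroup G) ≤ A := by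
    intro x hx
    have hx' : x ∈ MulAut.conj g • (P : Subgroup G) := hx
    rw [Subgroup.mem_pointwise_smul_iff_inv_smul_mem, ← map_inv, MulAut.smul_def, MulAut.conj_apply, inv_inv] at hx'
    have h3 := mem_C.1 (hPC _ hx')
    apply hA g hg
    rw [mem_C]
    calc x * (g * z * g⁻¹) = g * ((g⁻¹ * x * g) * z) * g⁻¹ := by group
      _ = g * (z * (g⁻¹ * x * g)) * g⁻¹ := by rw [h3]
      _ = g * z * g⁻¹ * x := by group
  obtain ⟨a, ha⟩ := MulAction.exists_smul_eq A (P.subtype h1) ((g • P).subtype h2)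
  rw [Sylow.smul_subtype] at ha
  have h3 : (a : G) • P = g • P := Sylow.subtype_injective ha
  have h4 : ((a : G)⁻¹ * g) • P = P := by rw [mul_smul, ← h3, inv_smul_smul]
  set n : G := (a : G)⁻¹ * g with hn
  have hnP : ∀ x ∈ P, n⁻¹ * x * n ∈ P := by
    intro x hx
    have hx' : x ∈ n • P := by rw [h4]; exact hx
    have hx'' : x ∈ MulAut.conj n • (P : Subgroup G) := hx'
    rwa [Subgroup.mem_pointwise_smul_iff_inv_smul_mem, ← map_inv, MulAut.smul_def, MulAut.conj_apply, inv_inv] at hx''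
  have h5 : n * z * n⁻¹ = 1 ∨ n * z * n⁻¹ = z := by
    apply eq_of_comm S
    intro y hy
    have h6 := mem_C.1 (hPC _ (hnP y (hQP y hy)))
    calc n * z * n⁻¹ * y = n * (z * (n⁻¹ * y * n)) * n⁻¹ := by group
      _ = n * ((n⁻¹ * y * n) * z) * n⁻¹ := by rw [h6]
      _ = y * (n * z * n⁻¹) := by group
  have h6 : n ∈ C z := by
    rw [mem_C]
    rcases h5 with h5 | h5
    · exfalso
      apply S.z_ne
      have h7 : z = n⁻¹ * (n * z * n⁻¹) * n := by group
      rw [h7, h5]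
      group
    · rwa [mul_inv_eq_iff_eq_mul] at h5
  have h7 : g = a * n := by rw [hn]; group
  rw [h7]
  exact A.mul_mem a.2 (hz h6)

end spin

open Cfsg.Agent.H209.Fxy Cfsg.Agent.Th.IndexUpper

theorem index_C {s : Cfsg.Spor.Th} (hs : orderOf s = 2) : (centralizer ({s} : Set Cfsg.Spor.Th)).index = 976841775 := by
  have h1 := (centralizer ({s} : Set Cfsg.Spor.Th)).card_mul_index
  rw [Cfsg.Agent.MonsterX.ThOneClass.card_centralizer hs, Cfsg.Agent.KFacts.Th.Main.ctx.card] at h1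
  omega

theorem exists_spin_a : Nonempty (SpinAt Cfsg.Spor.Th (gTh 1)) := by
  have hs : IsSimpleGroup Cfsg.Spor.Th := Cfsg.Agent.Th.Main1700.isTh.1
  have hf : Finite Cfsg.Spor.Th := Cfsg.Agent.KFacts.Th.Main.finite
  obtain ⟨Q, hn, h1, h2, h3, ⟨e⟩⟩ := Cfsg.Agent.MonsterX.ThOneClass.struct
  rcases Cfsg.Agent.ThType.ModMain.main (gTh 1) Cfsg.Agent.MonsterX.ThOneClass.orderOf_a Q h2 h1 h3 e with ⟨S, -⟩ | ⟨S, -⟩
  · exact ⟨S⟩
  · exact (Cfsg.Agent.ThType.FusN.false_of_nat S).elim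

theorem exists_spin {s : Cfsg.Spor.Th} (hs : orderOf s = 2) : Nonempty (SpinAt Cfsg.Spor.Th s) := by
  obtain ⟨S⟩ := exists_spin_a
  obtain ⟨c, hc⟩ := isConj_iff.1 (Cfsg.Agent.MonsterX.ThOneClass.oneClass (gTh 1) s Cfsg.Agent.MonsterX.ThOneClass.orderOf_a hs)
  rw [← hc]
  exact ⟨conj S c⟩

/-- **The row of `Th`.** -/
theorem kill_th : Kill Cfsg.Spor.Th := by
  intro A Γ h
  have hs : IsSimpleGroup Cfsg.Spor.Th := Cfsg.Agent.Th.Main1700.isTh.1
  have hf : Finite Cfsg.Spor.Th := Cfsg.Agent.KFacts.Th.Main.finite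
  have ho1 := Cfsg.Agent.MonsterX.ThOneClass.orderOf_a
  have hna : ∃ a b : Cfsg.Spor.Th, a * b ≠ b * a := by
    obtain ⟨S⟩ := exists_spin_a
    by_contra hcon
    push Not at hcon
    obtain ⟨g, h1, h2⟩ := Cfsg.Agent.ThType.FusS.exists_conj_mem S
    apply h2
    rw [hcon, inv_mul_cancel_left]
  obtain ⟨σ, hσ, ho, h3⟩ := h.ex
  obtain ⟨t, rfl⟩ := Cfsg.Agent.KFacts.Th.Main.inner σ
  have htA : t ∈ A := (h.conj t).1 hσ
  have ht2 : orderOf t = 2 := by rwa [H999.IFB.orderOf_conj hna] at ho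
  -- the involutions of `A`
  have hrel : ∀ s : Cfsg.Spor.Th, s ∈ A → orderOf s = 2 → A.relIndex (C s) ≤ 62 := by
    intro s hsA hs2
    obtain ⟨-, -, -, -, h4⟩ := H999.IFB.IF.E2' h hna hsA hs2
    have h5 := (h4 (centralizer ({s} : Set Cfsg.Spor.Th)) le_rfl).1
    rw [index_C hs2] at h5
    by_contra hcon
    push Not at hcon
    have h6 : 63 ^ 5 ≤ (A.relIndex (centralizer ({s} : Set Cfsg.Spor.Th))) ^ 5 := Nat.pow_le_pow_left hcon 5
    norm_num at h6
    omega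
  have hord : ∀ (s : Cfsg.Spor.Th) (_ : SpinAt Cfsg.Spor.Th s), orderOf s = 2 := fun s S' =>
    orderOf_eq_prime (by rw [pow_two]; exact S'.z_sq) S'.z_ne
  have hall : ∀ (s : Cfsg.Spor.Th) (S' : SpinAt Cfsg.Spor.Th s), s ∈ A → S'.Q ≤ A := fun s S' hsA =>
    Q_le_of S' hsA (hrel s hsA (hord s S'))
  have hcent : ∀ s : Cfsg.Spor.Th, s ∈ A → orderOf s = 2 → C s ≤ A := by
    intro s hsA hs2
    obtain ⟨S⟩ := exists_spin hs2
    obtain ⟨g, h1, h2⟩ := Cfsg.Agent.ThType.FusS.exists_conj_mem S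
    exact cent_le S hall hsA h1 h2
  obtain ⟨S⟩ := exists_spin ht2
  have hmem : ∀ g : Cfsg.Spor.Th, g * t * g⁻¹ ∈ A → g ∈ A := fun g hg =>
    mem_of_conj S (by rw [show (C t).index = 976841775 from index_C ht2]; norm_num)
      (fun g hg => hcent _ hg (hord _ (conj S g))) (hcent t htA ht2) hg
  have hsub : fixSet A (MulAut.conj t) ⊆ {((1 : Cfsg.Spor.Th) : Cfsg.Spor.Th ⧸ A)} := by
    rintro _ ⟨y, rfl, hy⟩
    rw [Set.mem_singleton_iff]
    symm
    rw [QuotientGroup.eq, inv_one, one_mul]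
    have h4 : y⁻¹ * t * (y⁻¹)⁻¹ ∈ A := by
      rw [MulAut.conj_apply] at hy
      have h5 : y⁻¹ * t * (y⁻¹)⁻¹ = (y⁻¹ * (t * y * t⁻¹)) * t := by group
      rw [h5]
      exact A.mul_mem hy htA
    exact A.inv_mem_iff.1 (hmem _ h4)
  have h4 : fx A (MulAut.conj t) ≤ 1 := by
    rw [← Set.ncard_singleton ((1 : Cfsg.Spor.Th) : Cfsg.Spor.Th ⧸ A)]
    exact Set.ncard_le_ncard hsub (Set.finite_singleton _)
  omega

/-- **The row of `Th`.** -/
theorem row_th : Row fun T => Cfsg.Spor.IsoTh T := by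
  rintro T _ _ _ - ⟨e⟩ A Γ hA
  exact Kill.congr e.symm kill_th A Γ hA

end Cfsg.Agent.H672.IF.Th
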